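import Cfsg.Agent.Lib.Block.RelAlperin.Orbits

/-!
# The orbit scalars modulo `p`

`θ = ψ|N` lies in the principal block and `P` is a Sylow `p`-subgroup of `N`.  A product of orbit
scalars is congruent to a sum over tuples inside `C(P)`.
-/

set_option autoImplicit false
set_option linter.style.haveILetI false
set_option linter.unusedSectionVars false

open Cfsg
open scoped ComplexConjugate

namespace Cfsg.Agent.Block.RelAlperin

universe u

variable {G : Type u} [Group G] [Fintype G] {p : ℕ} [Fact p.Prime]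

/-- The hypotheses: `θ = ψ|N` is irreducible and lies in the principal block. -/
structure Data (M : Ideal AlgInt) (N : Subgroup G) [Fintype N] (ψ : IrrCharacter G) : Prop where
  irr : IsIrrCharacter N (fun n : N => (ψ : G → ℂ) n)
  prin : (⟨_, irr⟩ : IrrCharacter N) ∈ principalBlock M N

variable {M : Ideal AlgInt} {N : Subgroup G} [N.Normal] [Fintype N] {ψ : IrrCharacter G}

/-- The centralizer of the Sylow subgroup of `N`. -/
def cP (P : Sylow p N) : Subgroup G :=
  Subgroup.centralizer (((P : Subgroup N).map N.subtype : Subgroup G) : Set G)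

theorem mem_cP {P : Sylow p N} {g : G} :
    g ∈ cP P ↔ ∀ u ∈ (P : Subgroup N), (u : G) * g = g * (u : G) := by
  simp only [cP, Subgroup.mem_centralizer_iff, Subgroup.coe_map, Subgroup.coe_subtype,
    Set.forall_mem_image]
  rfl

/-- The orbit meets the centralizer. -/
def Good (P : Sylow p N) (g : G) : Prop := ∃ u ∈ nOrb N g, u ∈ cP P

theorem good_of_mem {P : Sylow p N} {g : G} (h : g ∈ cP P) : Good P g :=
  ⟨g, self_mem_nOrb N g, h⟩

theorem good_iff_of_mem {P : Sylow p N} {g u : G} (h : u ∈ nOrb N g) : Good P u ↔ Good P g := by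
  simp only [Good, nOrb_eq h]

/-- Tuples from given orbits. -/
abbrev Tup (N : Subgroup G) {n : ℕ} (x : Fin n → G) : Type u := ∀ i, ↥(nOrb N (x i))

/-- The product of a tuple. -/
def tprod {n : ℕ} {x : Fin n → G} (t : Tup N x) : G := (List.ofFn fun i => (t i : G)).prod

/-- Conjugation of tuples by an element of `N`. -/
noncomputable def tconj {n : ℕ} {x : Fin n → G} (a : N) : Tup N x ≃ Tup N x where
  toFun t i := ⟨a * (t i : G) * (a : G)⁻¹, conj_mem_nOrb a.2 (t i).2⟩
  invFun t i := ⟨(a : G)⁻¹ * (t i : G) * a, by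
    have h := conj_mem_nOrb (inv_mem a.2) (t i).2
    rwa [inv_inv] at h⟩
  left_inv t := funext fun i => Subtype.ext (by group)
  right_inv t := funext fun i => Subtype.ext (by group)

theorem tprod_tconj {n : ℕ} {x : Fin n → G} (a : N) (t : Tup N x) :
    tprod (tconj a t) = a * tprod t * (a : G)⁻¹ := by
  rw [← MulAut.conj_apply, tprod, tprod, map_list_prod, List.map_ofFn]
  rfl

/-- The action of the Sylow subgroup on tuples. -/
@[reducible] noncomputable def tAct (P : Sylow p N) {n : ℕ} (x : Fin n → G) :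
    MulAction (P : Subgroup N) (Tup N x) where
  smul a t := tconj (a : N) t
  one_smul t := by
    show tconj ((1 : (P : Subgroup N)) : N) t = t
    exact funext fun i => Subtype.ext (by simp [tconj])
  mul_smul a b t := by
    show tconj ((a * b : (P : Subgroup N)) : N) t = tconj (a : N) (tconj (b : N) t)
    exact funext fun i => Subtype.ext (by simp [tconj, mul_assoc])

theorem sum_tuples_fixed (P : Sylow p N) {A : Type*} [AddCommMonoid A] (hA : ∀ x : A, p • x = 0)
    {n : ℕ} (x : Fin n → G) (F : G → A)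
    (hF : ∀ a : N, ∀ w : G, F (a * w * (a : G)⁻¹) = F w) [DecidablePred fun t : Tup N x =>
      ∀ i, (t i : G) ∈ cP P] :
    ∑ t : Tup N x, F (tprod t) =
      ∑ t ∈ Finset.univ.filter (fun t : Tup N x => ∀ i, (t i : G) ∈ cP P), F (tprod t) := by
  classical
  letI := tAct P x
  rw [sum_eq_sum_fixed hA P.isPGroup' (fun t : Tup N x => F (tprod t)) fun a t => by
    show F (tprod (tconj (a : N) t)) = _
    rw [tprod_tconj, hF]]
  rw [← finsum_mem_coe_finset]
  refine finsum_mem_congr ?_ fun _ _ => rfl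
  ext t
  simp only [MulAction.mem_fixedPoints, Finset.coe_filter, Finset.mem_univ, true_and,
    Set.mem_setOf_eq]
  constructor
  · intro h i
    refine mem_cP.2 fun u hu => ?_
    have h1 : tconj u t = t := h ⟨u, hu⟩
    have h2 : (u : G) * (t i : G) * (u : G)⁻¹ = t i := congrArg Subtype.val (congrFun h1 i)
    rwa [mul_inv_eq_iff_eq_mul] at h2
  · intro h a
    show tconj (a : N) t = t
    refine funext fun i => Subtype.ext ?_
    show ((a : N) : G) * (t i : G) * ((a : N) : G)⁻¹ = t i
    rw [mem_cP.1 (h i) _ a.2, mul_inv_cancel_right]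

theorem not_dvd_card_nOrb (P : Sylow p N) {g : G} (h : Good P g) : ¬ p ∣ (nOrb N g).card := by
  obtain ⟨u, hu, huC⟩ := h
  rw [← nOrb_eq hu, card_nOrb]
  refine fun hd => P.not_dvd_index (hd.trans (Subgroup.index_dvd_of_le fun a ha => ?_))
  rw [Subgroup.mem_subgroupOf, Subgroup.mem_centralizer_singleton_iff]
  exact mem_cP.1 huC a ha

theorem dvd_card_nOrb (P : Sylow p N) {g : G} (h : ¬ Good P g) : p ∣ (nOrb N g).card := by
  classical
  have hs := sum_tuples_fixed P (A := ZMod p) (fun z => by simp [CharP.cast_eq_zero])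
    (fun _ : Fin 1 => g) (fun _ => 1) fun _ _ => rfl
  rw [Finset.filter_false_of_mem fun t _ => by
    exact fun ht => h ⟨t 0, (t 0).2, ht 0⟩, Finset.sum_empty, Finset.sum_const, nsmul_one,
    Finset.card_univ, ZMod.natCast_eq_zero_iff, Fintype.card_pi] at hs
  simpa using hs

/-- A sum over tuples of the normalised values splits into orbit scalars. -/
theorem tuple_sum_mem (S : AddSubmonoid ℂ) {n : ℕ} (x : Fin n → G) (Q : G → Prop) [DecidablePred Q]
    (hQ : ∀ a : N, ∀ w : G, Q w → Q (a * w * (a : G)⁻¹))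
    (h : ∀ t : Tup N x, Q (tprod t) → om N (ψ : G → ℂ) (tprod t) ∈ S) :
    (∑ t ∈ Finset.univ.filter (fun t : Tup N x => Q (tprod t)),
      (ψ : G → ℂ) (tprod t) / (ψ : G → ℂ) 1) ∈ S := by
  classical
  set T := Finset.univ.filter (fun t : Tup N x => Q (tprod t)) with hT
  rw [← Finset.sum_fiberwise_of_maps_to (g := fun t => nOrb N (tprod t))
    (t := T.image fun t => nOrb N (tprod t)) fun t ht => Finset.mem_image_of_mem _ ht]
  refine AddSubmonoid.sum_mem S fun L hL => ?_
  obtain ⟨t₀, ht₀, rfl⟩ := Finset.mem_image.1 hL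
  set w := tprod t₀ with hw
  have hQw : Q w := (Finset.mem_filter.1 ht₀).2
  have hval : ∀ t ∈ T.filter (fun t => nOrb N (tprod t) = nOrb N w),
      (ψ : G → ℂ) (tprod t) / (ψ : G → ℂ) 1 = (ψ : G → ℂ) w / (ψ : G → ℂ) 1 := by
    intro t ht
    have hmem : tprod t ∈ nOrb N w := (Finset.mem_filter.1 ht).2 ▸ self_mem_nOrb N _
    obtain ⟨m, -, hm⟩ := mem_nOrb.1 hmem
    rw [← hm, irr_classFun ψ w m]
  rw [Finset.sum_congr rfl hval, Finset.sum_const]
  -- the number of tuples is a multiple of the orbit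
  set c := (Finset.univ.filter fun t : Tup N x => tprod t = w).card with hc
  have hcard : (T.filter fun t => nOrb N (tprod t) = nOrb N w).card = c * (nOrb N w).card := by
    have hmaps : ∀ t ∈ T.filter (fun t => nOrb N (tprod t) = nOrb N w), tprod t ∈ nOrb N w :=
      fun t ht => (Finset.mem_filter.1 ht).2 ▸ self_mem_nOrb N _
    rw [Finset.card_eq_sum_card_fiberwise hmaps, mul_comm, ← smul_eq_mul, ← Finset.sum_const]
    refine Finset.sum_congr rfl fun v hv => ?_
    obtain ⟨m, hm, rfl⟩ := mem_nOrb.1 hv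
    refine Finset.card_equiv (tconj ⟨m, hm⟩).symm fun t => ?_
    simp only [Finset.mem_filter, Finset.mem_univ, true_and, hT]
    have e := tprod_tconj ⟨m, hm⟩ ((tconj ⟨m, hm⟩).symm t)
    rw [Equiv.apply_symm_apply] at e
    constructor
    · rintro ⟨-, h1⟩
      rw [e] at h1
      exact mul_left_cancel (mul_right_cancel h1)
    · intro h1
      rw [e, h1]
      exact ⟨⟨hQ ⟨m, hm⟩ w hQw, nOrb_eq (mem_nOrb.2 ⟨m, hm, rfl⟩)⟩, rfl⟩
  rw [hcard, mul_smul, nsmul_eq_mul ((nOrb N w).card), ← om_eq_card_mul N (irr_classFun ψ)]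
  exact AddSubmonoid.nsmul_mem S (h t₀ hQw) c

/-- The local ideal as a submonoid. -/
def idealSub (hM : IsPModular p M) : AddSubmonoid ℂ where
  carrier := {z | MemLocalIdeal M z}
  zero_mem' := ideal_zero hM
  add_mem' := fun h h' => ideal_add hM h h'

variable (hM : IsPModular p M) (hD : Data M N ψ)

theorem nOrb_card_index (w : N) :
    (nOrb N (w : G)).card = (Subgroup.centralizer ({w} : Set N)).index := by
  rw [card_nOrb]
  congr 1
  ext a
  simp [Subgroup.mem_subgroupOf, Subgroup.mem_centralizer_singleton_iff, Subtype.ext_iff]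

include hD in
theorem om_mem_N (w : N) : om N (ψ : G → ℂ) (w : G) = centralChar (fun n : N => (ψ : G → ℂ) n) w := by
  rw [om_eq_card_mul N (irr_classFun ψ), centralChar, nOrb_card_index, mul_div_assoc]
  rfl

include hM hD in
theorem om_N_congr (w : N) :
    MemLocalIdeal M (om N (ψ : G → ℂ) (w : G) - ((nOrb N (w : G)).card : ℂ)) := by
  have h := pblock_sameBlock hM isPBlock_principalBlock hD.prin (trivial_mem_principalBlock hM) w
  rw [om_mem_N hD, nOrb_card_index]
  simpa [centralChar, trivialIrr] using h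

theorem tprod_const_mem_N (g : G) (t : Tup N (fun _ : Fin N.index => g)) : tprod t ∈ N := by
  rw [← QuotientGroup.eq_one_iff, ← QuotientGroup.mk'_apply, tprod, map_list_prod, List.map_ofFn]
  rw [show ((QuotientGroup.mk' N) ∘ fun i => (t i : G)) = fun _ => (g : G ⧸ N) from funext fun i => by
    obtain ⟨a, ha, he⟩ := mem_nOrb.1 (t i).2
    show ((t i : G) : G ⧸ N) = _
    rw [← he]
    simp [(QuotientGroup.eq_one_iff a).2 ha]]
  rw [List.ofFn_const, List.prod_replicate, Subgroup.index_eq_card]
  exact pow_card_eq_one'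

include hD in
theorem om_pow_index (g : G) :
    om N (ψ : G → ℂ) g ^ N.index = ∑ t : Tup N (fun _ : Fin N.index => g),
      (ψ : G → ℂ) (tprod t) / (ψ : G → ℂ) 1 := by
  rw [← Fin.prod_const, prod_om N ψ hD.irr]
  rfl

include hD in
theorem om_integral (g : G) : IsIntegral ℤ (om N (ψ : G → ℂ) g) := by
  classical
  refine IsIntegral.of_pow (Nat.pos_of_ne_zero (Subgroup.index_ne_zero_of_finite (H := N))) ?_
  rw [om_pow_index hD]
  have h := tuple_sum_mem (ψ := ψ) (integralClosure ℤ ℂ).toSubsemiring.toAddSubmonoid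
    (fun _ : Fin N.index => g) (fun _ => True) (fun _ _ _ => trivial) fun t _ => by
      rw [show tprod t = ((⟨tprod t, tprod_const_mem_N g t⟩ : N) : G) from rfl, om_mem_N hD]
      exact centralChar_isIntegral (⟨_, hD.irr⟩ : IrrCharacter N) _
  rwa [Finset.filter_true_of_mem fun _ _ => trivial] at h

include hM hD in
theorem om_ring (g : G) : MemLocalRing M (om N (ψ : G → ℂ) g) :=
  ring_of_integral hM (om_integral hD g)

include hM hD in
/-- The normalised value at elements of good orbits is a local integer. -/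
theorem mu_ring (P : Sylow p N) {g : G} (h : Good P g) :
    MemLocalRing M ((ψ : G → ℂ) g / (ψ : G → ℂ) 1) := by
  have h1 := ring_mul hM (ring_inv_natCast hM (not_dvd_card_nOrb P h)) (om_ring hM hD g)
  rwa [om_eq_card_mul N (irr_classFun ψ), inv_mul_cancel_left₀
    (Nat.cast_ne_zero.2 (Finset.card_ne_zero_of_mem (self_mem_nOrb N g)))] at h1

include hM hD in
/-- Products of orbit scalars, modulo `p`. -/
theorem prod_om_congr (P : Sylow p N) {n : ℕ} (x : Fin n → G) [DecidablePred fun t : Tup N x =>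
      ∀ i, (t i : G) ∈ cP P]
    (hbad : ∀ t : Tup N x, ¬ Good P (tprod t) →
      MemLocalIdeal M (om N (ψ : G → ℂ) (tprod t))) :
    red hM (∏ i, om N (ψ : G → ℂ) (x i)) =
      ∑ t ∈ Finset.univ.filter (fun t : Tup N x => ∀ i, (t i : G) ∈ cP P),
        red hM ((ψ : G → ℂ) (tprod t) / (ψ : G → ℂ) 1) := by
  classical
  have hQ : ∀ a : N, ∀ w : G, Good P (a * w * (a : G)⁻¹) ↔ Good P w := fun a w =>
    good_iff_of_mem (mem_nOrb.2 ⟨a, a.2, rfl⟩)
  have hB := tuple_sum_mem (ψ := ψ) (idealSub hM) x (fun w => ¬ Good P w)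
    (fun a w hw h => hw ((hQ a w).1 h)) hbad
  change MemLocalIdeal M _ at hB
  rw [prod_om N ψ hD.irr]
  change red hM (∑ t : Tup N x, (ψ : G → ℂ) (tprod t) / (ψ : G → ℂ) 1) = _
  rw [← Finset.sum_filter_add_sum_filter_not Finset.univ (fun t : Tup N x => Good P (tprod t)),
    red_add hM (ring_sum hM fun t ht => mu_ring hM hD P (Finset.mem_filter.1 ht).2)
      (ring_of_ideal hB), (red_eq_zero hM (ring_of_ideal hB)).2 hB, add_zero,
    red_sum hM fun t ht => mu_ring hM hD P (Finset.mem_filter.1 ht).2, Finset.sum_filter]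
  haveI := resField_charP hM
  rw [sum_tuples_fixed P (fun z : ResField hM => by simp [resField_p]) x
    (fun w => if Good P w then red hM ((ψ : G → ℂ) w / (ψ : G → ℂ) 1) else 0) fun a w => by
      simp only [hQ a w, irr_classFun ψ w a]]
  refine Finset.sum_congr rfl fun t ht => if_pos (good_of_mem ?_)
  exact Subgroup.list_prod_mem _ fun u hu => by
    obtain ⟨i, rfl⟩ := List.mem_ofFn.1 hu
    exact (Finset.mem_filter.1 ht).2 i

include hM hD in
/-- Orbits avoiding `C(P)` give scalars in the ideal. -/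
theorem om_bad (P : Sylow p N) {g : G} (h : ¬ Good P g) :
    MemLocalIdeal M (om N (ψ : G → ℂ) g) := by
  classical
  refine ideal_of_pow hM (om_ring hM hD g) N.index ?_
  rw [← red_eq_zero hM (ring_pow hM (om_ring hM hD g) _), ← Fin.prod_const,
    prod_om_congr hM hD P (fun _ : Fin N.index => g) fun t ht => ?_,
    Finset.filter_false_of_mem fun t _ hC =>
      h ⟨t ⟨0, Nat.pos_of_ne_zero Subgroup.index_ne_zero_of_finite⟩, (t _).2, hC _⟩,
    Finset.sum_empty]
  rw [show tprod t = ((⟨tprod t, tprod_const_mem_N g t⟩ : N) : G) from rfl]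
  have h1 := ideal_add hM (om_N_congr hM hD ⟨tprod t, tprod_const_mem_N g t⟩)
    ((ideal_natCast_iff hM _).2 (dvd_card_nOrb P ht))
  rwa [sub_add_cancel] at h1

include hM hD in
/-- The congruence without side conditions. -/
theorem prod_om_congr' (P : Sylow p N) {n : ℕ} (x : Fin n → G) [DecidablePred fun t : Tup N x =>
      ∀ i, (t i : G) ∈ cP P] :
    red hM (∏ i, om N (ψ : G → ℂ) (x i)) =
      ∑ t ∈ Finset.univ.filter (fun t : Tup N x => ∀ i, (t i : G) ∈ cP P),
        red hM ((ψ : G → ℂ) (tprod t) / (ψ : G → ℂ) 1) :=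
  prod_om_congr hM hD P x fun _ ht => om_bad hM hD P ht

end Cfsg.Agent.Block.RelAlperin
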