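import Cfsg.Agent.Lib.Block.RelAlperin.Mult
import Cfsg.Agent.Lib.Block.RootLift
import Cfsg.Agent.Lib.Block.RelGalAux

/-!
# An extension in the principal block when `G = N C(P)`
-/

set_option autoImplicit false
set_option linter.style.haveILetI false
set_option linter.unusedSectionVars false

open Cfsg
open scoped ComplexConjugate

namespace Cfsg.Agent.Block.RelAlperin

universe u

variable {G : Type u} [Group G] [Fintype G] {p : ℕ} [Fact p.Prime] {M : Ideal AlgInt}
  {N : Subgroup G} [N.Normal] [Fintype N] {ψ : IrrCharacter G}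

/-- A root of unity of order prime to `p` in the residue field lifts uniquely. -/
theorem exists_root_red (hM : IsPModular p M) {e : ℕ} (he : ¬ p ∣ e) (x : ResField hM)
    (hx : x ^ e = 1) : ∃ ε : ℂ, ε ^ e = 1 ∧ red hM ε = x := by
  classical
  letI := resInst hM
  have he0 : e ≠ 0 := fun h => he (h ▸ dvd_zero p)
  have hζ := Complex.isPrimitiveRoot_exp e he0
  let z : localRing hM :=
    ⟨_, ring_of_integral hM (hζ.isIntegral (Nat.pos_of_ne_zero he0))⟩
  have hz : IsPrimitiveRoot z e :=
    IsPrimitiveRoot.of_map_of_injective (f := (localRing hM).subtype) (by exact hζ)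
      (localRing hM).subtype_injective
  have h := congrArg (Polynomial.eval₂ (Ideal.Quotient.mk (localIdeal hM)) x)
    (Polynomial.X_pow_sub_one_eq_prod (Nat.pos_of_ne_zero he0) hz)
  simp only [Polynomial.eval₂_sub, Polynomial.eval₂_pow, Polynomial.eval₂_X, Polynomial.eval₂_one,
    Polynomial.eval₂_finsetProd, Polynomial.eval₂_C, hx, sub_self] at h
  obtain ⟨r, hr, hr0⟩ := Finset.prod_eq_zero_iff.1 h.symm
  refine ⟨(r : ℂ), ?_, ?_⟩
  · exact congrArg Subtype.val ((Polynomial.mem_nthRootsFinset (Nat.pos_of_ne_zero he0) 1).1 hr)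
  · rw [red_mk hM r.2]
    exact (sub_eq_zero.1 hr0).symm

theorem root_red_injective (hM : IsPModular p M) {e : ℕ} (he : ¬ p ∣ e) {a b : ℂ} (ha : a ^ e = 1)
    (hb : b ^ e = 1) (h : red hM a = red hM b) : a = b := by
  have he0 : 0 < e := Nat.pos_of_ne_zero fun h => he (h ▸ dvd_zero p)
  have hai : IsIntegral ℤ a := IsIntegral.of_pow he0 (by rw [ha]; exact isIntegral_one)
  have hbi : IsIntegral ℤ b := IsIntegral.of_pow he0 (by rw [hb]; exact isIntegral_one)
  rw [red_eq_red hM (ring_of_integral hM hai) (ring_of_integral hM hbi)] at h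
  exact congrArg Subtype.val (roots_injective hM (e₁ := ⟨a, hai⟩) (e₂ := ⟨b, hbi⟩) he ha he hb
    ((ideal_coe_iff hM (⟨a, hai⟩ - ⟨b, hbi⟩ : AlgInt)).1 (by simpa using h)))

/-- The correcting linear character. -/
theorem exists_twist (hM : IsPModular p M) (hD : Data M N ψ) (P : Sylow p N)
    (hcov : N ⊔ cP P = ⊤) :
    ∃ l : G →* ℂˣ, (∀ n ∈ N, l n = 1) ∧ (∀ g : G, MemLocalRing M (l g : ℂ)) ∧
      ∀ c ∈ cP P, red hM (l c : ℂ) * fval hM ψ c = 1 := by
  classical
  letI := resInst hM
  haveI := resField_charP hM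
  haveI := ExpChar.prime (R := ResField hM) (Fact.out : p.Prime)
  have hrep : ∀ g : G, ∃ c ∈ cP P, c⁻¹ * g ∈ N := by
    intro g
    obtain ⟨n, hn, c, hc, rfl⟩ := Subgroup.mem_sup_of_normal_left.1 (hcov ▸ Subgroup.mem_top g)
    refine ⟨c, hc, ?_⟩
    have := (inferInstance : N.Normal).conj_mem n hn c⁻¹
    rwa [inv_inv, mul_assoc] at this
  choose r hr hrN using hrep
  set ν : G → ResField hM := fun g => fval hM ψ (r g) with hν
  have hνC : ∀ c ∈ cP P, ν c = fval hM ψ c := fun c hc => by
    refine (fval_congr hM hD P (hr c) hc ?_).symm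
    exact hrN c
  have hνmul : ∀ a b, ν (a * b) = ν a * ν b := by
    intro a b
    simp only [hν]
    rw [← fval_mul hM hD P (hr a) (hr b)]
    refine fval_congr hM hD P (mul_mem (hr a) (hr b)) (hr _) ?_
    rw [← QuotientGroup.eq_one_iff, QuotientGroup.mk_mul, QuotientGroup.mk_inv, QuotientGroup.mk_mul,
      QuotientGroup.eq.2 (hrN a), QuotientGroup.eq.2 (hrN b), QuotientGroup.eq.2 (hrN (a * b)),
      QuotientGroup.mk_mul, inv_mul_cancel]
  have hνN : ∀ n ∈ N, ν n = 1 := by
    intro n hn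
    refine fval_of_mem_N hM hD P ?_ (good_of_mem (hr n))
    simpa using N.mul_mem hn (N.inv_mem (hrN n))
  set e := ordCompl[p] (Nat.card G) with he'
  have he : ¬ p ∣ e := Nat.not_dvd_ordCompl Fact.out Nat.card_pos.ne'
  have he0 : 0 < e := Nat.pos_of_ne_zero fun h => he (h ▸ dvd_zero p)
  have hνe : ∀ g, ν g ^ e = 1 := by
    intro g
    let f : G →* ResField hM :=
      { toFun := ν, map_one' := hνN 1 (one_mem _), map_mul' := hνmul }
    refine iterateFrobenius_inj (ResField hM) p ((Nat.card G).factorization p) ?_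
    rw [iterateFrobenius_def, iterateFrobenius_def, one_pow, ← pow_mul, mul_comm,
      Nat.ordProj_mul_ordCompl_eq_self]
    show f g ^ Nat.card G = 1
    rw [← map_pow, pow_card_eq_one', map_one]
  choose L hL hLred using fun g => exists_root_red hM he (ν g ^ (e - 1))
    (by rw [← pow_mul, mul_comm, pow_mul, hνe, one_pow])
  have hLint : ∀ g, IsIntegral ℤ (L g) := fun g =>
    IsIntegral.of_pow he0 (by rw [hL]; exact isIntegral_one)
  have hLmul : ∀ a b, L (a * b) = L a * L b := by
    intro a b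
    refine root_red_injective hM he (hL _) (by rw [mul_pow, hL, hL, one_mul]) ?_
    rw [red_mul hM (ring_of_integral hM (hLint a)) (ring_of_integral hM (hLint b)), hLred, hLred,
      hLred, hνmul, mul_pow]
  have hLN : ∀ n ∈ N, L n = 1 := fun n hn =>
    root_red_injective hM he (hL n) (one_pow e) (by rw [hLred, hνN n hn, one_pow, red_one])
  let l₀ : G →* ℂ := { toFun := L, map_one' := hLN 1 (one_mem _), map_mul' := hLmul }
  refine ⟨l₀.toHomUnits, fun n hn => Units.ext (hLN n hn),
    fun g => ring_of_integral hM (hLint g), fun c hc => ?_⟩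
  show red hM (L c) * fval hM ψ c = 1
  rw [hLred, ← hνC c hc, ← pow_succ, show e - 1 + 1 = e by omega, hνe]

/-- The twisted character lies in the principal block of every intermediate group. -/
theorem twist_principal (hM : IsPModular p M) (hD : Data M N ψ) (P : Sylow p N) (l : G →* ℂˣ)
    (hlr : ∀ g : G, MemLocalRing M (l g : ℂ))
    (hl : ∀ c ∈ cP P, red hM (l c : ℂ) * fval hM ψ c = 1)
    (χ : IrrCharacter G) (hχ : ∀ g, (χ : G → ℂ) g = (l g : ℂ) * (ψ : G → ℂ) g)
    (J : Subgroup G) (hNJ : N ≤ J) (ξ : IrrCharacter J) (hξ : ∀ y : J, (ξ : J → ℂ) y = (χ : G → ℂ) y) :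
    ξ ∈ principalBlock M J := by
  classical
  letI := resInst hM
  rw [principalBlock_eq]
  refine mem_blockOf.2 fun y => ?_
  have hidx : (Subgroup.centralizer ({y} : Set J)).index = (nOrb J (y : G)).card := by
    rw [card_nOrb]
    congr 1
    ext a
    simp [Subgroup.mem_subgroupOf, Subgroup.mem_centralizer_singleton_iff, Subtype.ext_iff]
  have hval : centralChar (ξ : J → ℂ) y - centralChar ((trivialIrr J : IrrCharacter J) : J → ℂ) y =
      ∑ u ∈ nOrb J (y : G), ((χ : G → ℂ) u / (χ : G → ℂ) 1 - 1) := by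
    rw [Finset.sum_sub_distrib, sum_nOrb J (irr_classFun χ), Finset.sum_const, nsmul_one,
      centralChar, centralChar, hidx, hξ, hξ, Subgroup.coe_one, mul_div_assoc]
    simp [trivialIrr]
  refine ideal_sub_comm ?_
  rw [hval, ← Finset.sum_fiberwise_of_maps_to (g := fun u => nOrb N u)
    (t := (nOrb J (y : G)).image fun u => nOrb N u) fun u hu => Finset.mem_image_of_mem _ hu]
  refine ideal_sum hM fun L hL => ?_
  obtain ⟨u, hu, rfl⟩ := Finset.mem_image.1 hL
  have hset : (nOrb J (y : G)).filter (fun v => nOrb N v = nOrb N u) = nOrb N u := by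
    ext v
    rw [Finset.mem_filter]
    refine ⟨fun h => h.2 ▸ self_mem_nOrb N v, fun h => ⟨?_, nOrb_eq h⟩⟩
    obtain ⟨n, hn, rfl⟩ := mem_nOrb.1 h
    exact conj_mem_nOrb (hNJ hn) hu
  have hl1 : (l 1 : ℂ) = 1 := by simp
  have hlu : (l u : ℂ) * om N (ψ : G → ℂ) u =
      ((nOrb N u).card : ℂ) * ((χ : G → ℂ) u / (χ : G → ℂ) 1) := by
    rw [om_eq_card_mul N (irr_classFun ψ), hχ u, hχ 1, hl1, one_mul]
    ring
  rw [hset, Finset.sum_sub_distrib, sum_nOrb N (irr_classFun χ), Finset.sum_const, nsmul_one,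
    ← hlu, ← red_eq_red hM (ring_mul hM (hlr u) (om_ring hM hD u)) (ring_natCast hM _),
    red_mul hM (hlr u) (om_ring hM hD u)]
  have hcard : red hM ((nOrb N u).card : ℂ) = ((nOrb N u).card : ResField hM) := by
    simpa [red_one] using red_natCast_mul hM hD (z := 1) (ring_one hM) (nOrb N u).card
  rw [hcard]
  by_cases hgood : Good P u
  · rw [om_eq_card_mul N (irr_classFun ψ), red_natCast_mul hM hD (mu_ring hM hD P hgood)]
    obtain ⟨v, hv, hvC⟩ := hgood
    obtain ⟨n, -, rfl⟩ := mem_nOrb.1 hv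
    have h1 := hl _ hvC
    rw [fval_conj, map_mul, map_mul, map_inv, mul_comm (l n), mul_inv_cancel_right] at h1
    change red hM (l u : ℂ) * (((nOrb N u).card : ResField hM) * fval hM ψ u) = _
    rw [mul_left_comm, h1, mul_one]
  · rw [(red_eq_zero hM (om_ring hM hD u)).2 (om_bad hM hD P hgood), mul_zero]
    haveI := resField_charP hM
    exact ((CharP.cast_eq_zero_iff (ResField hM) p _).2 (dvd_card_nOrb P hgood)).symm

end Cfsg.Agent.Block.RelAlperin
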