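import Cfsg.Agent.Lib.Block.RelAlperin.Congr
import Cfsg.Agent.Lib.Transfer.NormalComplement

/-!
# The reduced value `ψ/ψ(1)` is multiplicative on `C(P)` and trivial on `C(P) ∩ N`
-/

set_option autoImplicit false
set_option linter.style.haveILetI false
set_option linter.unusedSectionVars false

open Cfsg
open scoped ComplexConjugate

namespace Cfsg.Agent.Block.RelAlperin

universe u

variable {G : Type u} [Group G] [Fintype G] {p : ℕ} [Fact p.Prime] {M : Ideal AlgInt}
  {N : Subgroup G} [N.Normal] [Fintype N] {ψ : IrrCharacter G}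

/-- The reduced normalised value. -/
noncomputable def fval (hM : IsPModular p M) (ψ : IrrCharacter G) (g : G) : ResField hM :=
  red hM ((ψ : G → ℂ) g / (ψ : G → ℂ) 1)

theorem fval_conj (hM : IsPModular p M) (g a : G) : fval hM ψ (a * g * a⁻¹) = fval hM ψ g := by
  simp only [fval, irr_classFun ψ g a]

variable (hM : IsPModular p M) (hD : Data M N ψ) (P : Sylow p N)

include hM hD in
theorem red_natCast_mul {z : ℂ} (hz : MemLocalRing M z) (n : ℕ) :
    red hM ((n : ℂ) * z) = (n : ResField hM) * red hM z := by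
  induction n with
  | zero => simp [red_zero]
  | succ k ih =>
    rw [Nat.cast_succ, Nat.cast_succ, add_mul, add_mul, one_mul, one_mul,
      red_add hM (ring_mul hM (ring_natCast hM k) hz) hz, ih]

/-- The orbit sizes reduce to a non-zero element. -/
theorem cast_card_ne_zero {g : G} (h : Good P g) : ((nOrb N g).card : ResField hM) ≠ 0 := by
  haveI := resField_charP hM
  rw [Ne, CharP.cast_eq_zero_iff (ResField hM) p]
  exact not_dvd_card_nOrb P h

include hD in
/-- The product formula. -/
theorem prod_fval {n : ℕ} (x : Fin n → G) (hx : ∀ i, Good P (x i)) [DecidablePred fun t : Tup N x =>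
      ∀ i, (t i : G) ∈ cP P] :
    (∏ i, ((nOrb N (x i)).card : ResField hM)) * ∏ i, fval hM ψ (x i) =
      ∑ t ∈ Finset.univ.filter (fun t : Tup N x => ∀ i, (t i : G) ∈ cP P),
        fval hM ψ (tprod t) := by
  refine Eq.trans ?_ (prod_om_congr' hM hD P x)
  rw [← Finset.prod_mul_distrib]
  have h : ∀ s : Finset (Fin n), red hM (∏ i ∈ s, om N (ψ : G → ℂ) (x i)) =
      ∏ i ∈ s, ((nOrb N (x i)).card : ResField hM) * fval hM ψ (x i) := by
    intro s
    induction s using Finset.induction with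
    | empty => simp [red_one]
    | insert i s hi ih =>
      rw [Finset.prod_insert hi, Finset.prod_insert hi, red_mul hM (om_ring hM hD _)
        (Finset.prod_induction _ (MemLocalRing M) (fun _ _ => ring_mul hM) (ring_one hM)
          fun j _ => om_ring hM hD _), ih, om_eq_card_mul N (irr_classFun ψ),
        red_natCast_mul hM hD (mu_ring hM hD P (hx i))]
      rfl
  exact (h Finset.univ).symm

/-- The number of fixed tuples. -/
theorem card_fixed_tuples {n : ℕ} (x : Fin n → G) [DecidablePred fun t : Tup N x =>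
      ∀ i, (t i : G) ∈ cP P] :
    (∏ i, ((nOrb N (x i)).card : ResField hM)) =
      ((Finset.univ.filter (fun t : Tup N x => ∀ i, (t i : G) ∈ cP P)).card : ResField hM) := by
  have h := sum_tuples_fixed P (A := ResField hM) (fun z => by simp [resField_p]) x (fun _ => 1)
    fun _ _ => rfl
  rw [Finset.sum_const, Finset.sum_const, nsmul_one, nsmul_one, Finset.card_univ,
    Fintype.card_pi, Nat.cast_prod] at h
  simpa using h

include hD in
/-- If all fixed tuples have a common value, so do the original elements. -/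
theorem prod_fval_eq {n : ℕ} (x : Fin n → G) (hx : ∀ i, Good P (x i)) (c : ResField hM)
    (hc : ∀ t : Tup N x, (∀ i, (t i : G) ∈ cP P) → fval hM ψ (tprod t) = c) :
    ∏ i, fval hM ψ (x i) = c := by
  classical
  letI := resInst hM
  have h := prod_fval hM hD P x hx
  rw [Finset.sum_congr rfl fun t ht => hc t (Finset.mem_filter.1 ht).2, Finset.sum_const,
    nsmul_eq_mul, ← card_fixed_tuples hM P x] at h
  exact mul_left_cancel₀ (Finset.prod_ne_zero_iff.2 fun i _ => cast_card_ne_zero hM P (hx i)) h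

include hD in
theorem fval_of_mem_N {g : G} (hg : g ∈ N) (h : Good P g) : fval hM ψ g = 1 := by
  letI := resInst hM
  have h1 := om_N_congr hM hD ⟨g, hg⟩
  rw [om_eq_card_mul N (irr_classFun ψ), ← red_eq_red hM
    (ring_mul hM (ring_natCast hM _) (mu_ring hM hD P h)) (ring_natCast hM _),
    red_natCast_mul hM hD (mu_ring hM hD P h)] at h1
  refine mul_left_cancel₀ (cast_card_ne_zero hM P h) ?_
  rw [mul_one]
  refine h1.trans ?_
  have h2 := red_natCast_mul hM hD (z := 1) (ring_one hM) (nOrb N g).card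
  simpa [red_one] using h2

open Fin.NatCast in
include hD in
/-- `p`-th powers. -/
theorem fval_pow_p {x : G} (hx : x ∈ cP P) : fval hM ψ (x ^ p) = fval hM ψ x ^ p := by
  classical
  letI := resInst hM
  haveI := resField_charP hM
  haveI := ExpChar.prime (R := ResField hM) (Fact.out : p.Prime)
  obtain ⟨m, hm⟩ : ∃ m, p = m + 1 := ⟨p - 1, by have := (Fact.out : p.Prime).one_lt; omega⟩
  have h := prod_fval hM hD P (fun _ : Fin p => x) fun _ => good_of_mem hx
  rw [Fin.prod_const, Fin.prod_const] at h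
  set O := Finset.univ.filter (fun u : ↥(nOrb N x) => (u : G) ∈ cP P) with hO
  -- rotate the tuples
  let σ : Equiv.Perm (Fin p → O) := (finRotate p).arrowCongr (Equiv.refl _)
  have hσ : σ ^ p = 1 := by
    have h2 : ∀ (k : ℕ) (s : Fin p → O) (i : Fin p),
        (σ ^ k) s i = s (((finRotate p) ^ k).symm i) := by
      intro k
      induction k with
      | zero => intro s i; rfl
      | succ j ih =>
        intro s i
        rw [pow_succ', Equiv.Perm.mul_apply, pow_succ' (finRotate p)]
        show (σ ^ j) s ((finRotate p).symm i) = _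
        rw [ih]
        rfl
    have hr : (finRotate p) ^ p = 1 := by
      subst hm
      have h3 : ∀ (k : ℕ) (i : Fin (m + 1)), ((finRotate (m + 1)) ^ k) i = i + (k : Fin (m + 1)) := by
        intro k
        induction k with
        | zero => intro i; simp
        | succ j ih =>
          intro i
          rw [pow_succ', Equiv.Perm.mul_apply, finRotate_succ_apply, ih, Nat.cast_succ, add_assoc]
      refine Equiv.ext fun i => ?_
      rw [h3, Fin.natCast_self, add_zero]
      rfl
    refine Equiv.ext fun s => funext fun i => ?_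
    rw [h2, hr]
    rfl
  have hrot : ∀ s : Fin p → O, fval hM ψ (List.ofFn fun i => ((σ s i : ↥(nOrb N x)) : G)).prod =
      fval hM ψ (List.ofFn fun i => ((s i : ↥(nOrb N x)) : G)).prod := by
    subst hm
    intro s
    have e : ∀ i, (finRotate (m + 1)).symm i = i - 1 := fun i => by
      rw [Equiv.symm_apply_eq, finRotate_succ_apply, sub_add_cancel]
    have e2 : (List.ofFn fun i => ((σ s i : ↥(nOrb N x)) : G)).prod =
        ((s (Fin.last m) : ↥(nOrb N x)) : G) *
          (List.ofFn fun i : Fin m => ((s i.castSucc : ↥(nOrb N x)) : G)).prod := by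
      rw [List.ofFn_succ, List.prod_cons]
      congr 1
      congr 1
      refine List.ofFn_inj.2 (funext fun i => ?_)
      show ((s ((finRotate (m + 1)).symm i.succ) : ↥(nOrb N x)) : G) = _
      rw [e, ← Fin.coeSucc_eq_succ, add_sub_cancel_right]
    rw [e2, List.ofFn_succ' (fun i => ((s i : ↥(nOrb N x)) : G)), List.concat_eq_append,
      List.prod_append, List.prod_singleton]
    set A := ((s (Fin.last m) : ↥(nOrb N x)) : G)
    set B := (List.ofFn fun i : Fin m => ((s i.castSucc : ↥(nOrb N x)) : G)).prod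
    rw [show A * B = A * (B * A) * A⁻¹ by group, fval_conj]
  have hpg : IsPGroup p (Subgroup.zpowers σ) := by
    intro a
    obtain ⟨k, hk⟩ := a.2
    refine ⟨1, Subtype.ext ?_⟩
    rw [pow_one, Subgroup.coe_pow, ← hk, Subgroup.coe_one, ← zpow_natCast (σ ^ k),
      ← zpow_mul, mul_comm, zpow_mul, zpow_natCast, hσ, one_zpow]
  have hinv : ∀ (a : Subgroup.zpowers σ) (s : Fin p → O),
      fval hM ψ (List.ofFn fun i => ((((a : Equiv.Perm _) s) i : ↥(nOrb N x)) : G)).prod =
        fval hM ψ (List.ofFn fun i => ((s i : ↥(nOrb N x)) : G)).prod := by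
    have hk : ∀ (k : ℕ) (s : Fin p → O),
        fval hM ψ (List.ofFn fun i => (((σ ^ k) s i : ↥(nOrb N x)) : G)).prod =
          fval hM ψ (List.ofFn fun i => ((s i : ↥(nOrb N x)) : G)).prod := by
      intro k
      induction k with
      | zero => intro s; rfl
      | succ j ih => intro s; rw [pow_succ', Equiv.Perm.mul_apply, hrot, ih]
    rintro ⟨a, ha⟩ s
    rw [← mem_powers_iff_mem_zpowers] at ha
    obtain ⟨k, rfl⟩ := ha
    exact hk k s
  have hsum := sum_eq_sum_fixed (A := ResField hM) (fun z => by simp [resField_p]) hpg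
    (fun s : Fin p → O => fval hM ψ (List.ofFn fun i => ((s i : ↥(nOrb N x)) : G)).prod)
    fun a s => hinv a s
  -- the constant tuples
  have hconstfix : ∀ (k : ℕ) (u : O), (σ ^ k) (fun _ => u) = fun _ : Fin p => u := by
    intro k u
    induction k with
    | zero => rfl
    | succ j ih => rw [pow_succ', Equiv.Perm.mul_apply, ih]; rfl
  have hfix : (MulAction.fixedPoints (Subgroup.zpowers σ) (Fin p → O)) =
      ↑(Finset.univ.image fun u : O => fun _ : Fin p => u) := by
    ext s
    simp only [MulAction.mem_fixedPoints, Finset.coe_image, Finset.coe_univ, Set.image_univ,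
      Set.mem_range]
    constructor
    · intro hs
      subst hm
      have h1 : ∀ i, s ((finRotate (m + 1)).symm i) = s i :=
        congrFun (hs ⟨σ, Subgroup.mem_zpowers σ⟩)
      refine ⟨s 0, funext fun i => ?_⟩
      induction i using Fin.induction with
      | zero => rfl
      | succ j ihj =>
        rw [ihj, ← h1 j.succ]
        congr 1
        rw [Equiv.eq_symm_apply, finRotate_succ_apply, Fin.coeSucc_eq_succ]
    · rintro ⟨u, rfl⟩ ⟨a, ha⟩
      rw [← mem_powers_iff_mem_zpowers] at ha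
      obtain ⟨k, rfl⟩ := ha
      show (σ ^ k) (fun _ => u) = fun _ => u
      exact hconstfix k u
  rw [hfix, finsum_mem_coe_finset, Finset.sum_image fun a _ b _ hab =>
    congrFun hab ⟨0, (Fact.out : p.Prime).pos⟩] at hsum
  have hconst : ∀ u : O, fval hM ψ (List.ofFn fun _ : Fin p => ((u : ↥(nOrb N x)) : G)).prod =
      fval hM ψ (x ^ p) := by
    intro u
    obtain ⟨a, -, ha⟩ := mem_nOrb.1 (u : ↥(nOrb N x)).2
    rw [List.ofFn_const, List.prod_replicate, ← ha, ← MulAut.conj_apply, ← map_pow,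
      MulAut.conj_apply, fval_conj]
  rw [Finset.sum_congr rfl fun u _ => hconst u, Finset.sum_const, nsmul_eq_mul,
    Finset.card_univ] at hsum
  have hbij : ∑ t ∈ Finset.univ.filter (fun t : Tup N (fun _ : Fin p => x) => ∀ i, (t i : G) ∈ cP P),
      fval hM ψ (tprod t) =
      ∑ s : Fin p → O, fval hM ψ (List.ofFn fun i => ((s i : ↥(nOrb N x)) : G)).prod := by
    refine Finset.sum_bij' (fun t ht i => ⟨t i, Finset.mem_filter.2 ⟨Finset.mem_univ _,
      (Finset.mem_filter.1 ht).2 i⟩⟩) (fun s _ i => (s i : ↥(nOrb N x)))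
      (fun _ _ => Finset.mem_univ _) (fun s _ => Finset.mem_filter.2 ⟨Finset.mem_univ _,
        fun i => (Finset.mem_filter.1 (s i).2).2⟩) (fun _ _ => rfl) (fun _ _ => rfl) (fun _ _ => rfl)
  rw [hbij, hsum] at h
  have hc := card_fixed_tuples hM P (fun _ : Fin 1 => x)
  rw [Fin.prod_univ_one] at hc
  have hO' : (Fintype.card O : ResField hM) = ((nOrb N x).card : ResField hM) := by
    rw [hc]
    congr 1
    rw [Fintype.card_coe]
    refine Finset.card_bij' (fun u _ _ => u) (fun t _ => t 0) (fun u hu => ?_) (fun t ht => ?_)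
      (fun _ _ => rfl) (fun t _ => funext fun i => by rw [Subsingleton.elim i 0])
    · exact Finset.mem_filter.2 ⟨Finset.mem_univ _, fun _ => (Finset.mem_filter.1 hu).2⟩
    · exact Finset.mem_filter.2 ⟨Finset.mem_univ _, (Finset.mem_filter.1 ht).2 0⟩
  have hfrob : ((nOrb N x).card : ResField hM) ^ p = ((nOrb N x).card : ResField hM) := by
    rw [← frobenius_def, map_natCast]
  rw [hfrob, hO'] at h
  exact (mul_left_cancel₀ (cast_card_ne_zero hM P (good_of_mem hx)) h).symm

include hD in
theorem fval_pow_pk {x : G} (hx : x ∈ cP P) : ∀ k : ℕ, fval hM ψ (x ^ p ^ k) = fval hM ψ x ^ p ^ k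
  | 0 => by simp
  | k + 1 => by
    rw [pow_succ, pow_mul, fval_pow_p hM hD P (pow_mem hx _), fval_pow_pk hx k, ← pow_mul]

omit hD in
theorem sylow_conj_cP {x u : G} (hx : x ∈ cP P) (hu : u ∈ cP P) (h : u ∈ nOrb N x) :
    ∃ r : G, r ∈ N ∧ u = r * x * r⁻¹ ∧ (∀ c, c ∈ cP P → r⁻¹ * c * r ∈ cP P) := by
  obtain ⟨n, hn, rfl⟩ := mem_nOrb.1 h
  set H : Subgroup N := (Subgroup.centralizer ({n * x * n⁻¹} : Set G)).subgroupOf N with hH
  have h1 : (P : Subgroup N) ≤ H := fun a ha => Subgroup.mem_centralizer_singleton_iff.2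
    (mem_cP.1 hu a ha)
  have h2 : ((⟨n, hn⟩ : N) • P : Sylow p N) ≤ H := by
    rintro - ⟨a, ha, rfl⟩
    refine Subgroup.mem_centralizer_singleton_iff.2 ?_
    show n * (a : G) * n⁻¹ * (n * x * n⁻¹) = n * x * n⁻¹ * (n * (a : G) * n⁻¹)
    rw [show n * (a : G) * n⁻¹ * (n * x * n⁻¹) = n * ((a : G) * x) * n⁻¹ by group,
      mem_cP.1 hx a ha]
    group
  obtain ⟨k, hk⟩ := MulAction.exists_smul_eq H (((⟨n, hn⟩ : N) • P).subtype h2) (P.subtype h1)
  simp_rw [Sylow.smul_subtype, Subgroup.smul_def, smul_smul] at hk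
  have hk' : ((k : N) * ⟨n, hn⟩) • P = P := Sylow.subtype_injective hk
  have hkn := Sylow.smul_eq_iff_mem_normalizer.mp hk'
  have hkc : ((k : N) : G) * (n * x * n⁻¹) = n * x * n⁻¹ * ((k : N) : G) :=
    Subgroup.mem_centralizer_singleton_iff.1 k.2
  refine ⟨((k : N) : G) * n, N.mul_mem (k : N).2 hn, ?_, fun c hc => mem_cP.2 fun a ha => ?_⟩
  · rw [show ((k : N) : G) * n * x * (((k : N) : G) * n)⁻¹ =
      ((k : N) : G) * (n * x * n⁻¹) * ((k : N) : G)⁻¹ by group, hkc, mul_inv_cancel_right]
  · set r : N := (k : N) * ⟨n, hn⟩ with hr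
    have ha' : r * a * r⁻¹ ∈ (P : Subgroup N) := (Subgroup.mem_normalizer_iff.1 hkn a).1 ha
    have e := mem_cP.1 hc _ ha'
    simp only [Subgroup.coe_mul, Subgroup.coe_inv] at e
    have e' : (r : G) = ((k : N) : G) * n := rfl
    rw [← e']
    calc (a : G) * ((r : G)⁻¹ * c * r) = (r : G)⁻¹ * ((r : G) * a * (r : G)⁻¹ * c) * r := by group
      _ = (r : G)⁻¹ * (c * ((r : G) * a * (r : G)⁻¹)) * r := by rw [e]
      _ = (r : G)⁻¹ * c * r * a := by group

omit hD in
/-- The `p'`-elements of `C_N(P)` form a subgroup of order prime to `p`. -/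
theorem exists_pPrime_part :
    ∃ W : Subgroup G, ¬ p ∣ Nat.card W ∧
      ∀ c : G, c ∈ W ↔ c ∈ cP P ∧ c ∈ N ∧ (orderOf c).Coprime p := by
  set K : Subgroup N := (cP P).subgroupOf N with hK
  have hpel : ∀ c : N, c ∈ K → (∃ k, orderOf c = p ^ k) → c ∈ (P : Subgroup N) := by
    intro c hc hord
    have hnorm : Subgroup.zpowers c ≤ Subgroup.normalizer ((P : Subgroup N) : Set N) := by
      rw [Subgroup.zpowers_le, Subgroup.mem_normalizer_iff]
      intro a
      refine ⟨fun ha => ?_, fun ha => ?_⟩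
      · have e : a * c = c * a := Subtype.ext (mem_cP.1 hc a ha)
        rwa [← e, mul_inv_cancel_right]
      · have e : c * a * c⁻¹ * c = c * (c * a * c⁻¹) := Subtype.ext (mem_cP.1 hc _ ha)
        rw [inv_mul_cancel_right, mul_right_inj] at e
        rwa [← e] at ha
    obtain ⟨k, hk⟩ := hord
    have hsup : IsPGroup p (Subgroup.zpowers c ⊔ (P : Subgroup N) : Subgroup N) :=
      IsPGroup.to_sup_of_normal_right' (IsPGroup.of_card (n := k) (by rw [Nat.card_zpowers, hk]))
        P.isPGroup' hnorm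
    exact (P.is_maximal' hsup le_sup_right).le (Subgroup.mem_sup_left (Subgroup.mem_zpowers c))
  have hcen : ∀ Q : Sylow p K, Subgroup.normalizer ((Q : Subgroup K) : Set K) ≤
      Subgroup.centralizer ((Q : Subgroup K) : Set K) := by
    intro Q a _
    refine Subgroup.mem_centralizer_iff.2 fun b hb => ?_
    obtain ⟨k, hk⟩ := IsPGroup.iff_orderOf.1 Q.isPGroup' ⟨b, hb⟩
    rw [Subgroup.orderOf_mk] at hk
    have hbP := hpel (b : N) b.2 ⟨k, by rw [Subgroup.orderOf_coe, hk]⟩
    exact Subtype.ext (Subtype.ext (mem_cP.1 a.2 _ hbP))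
  have hcompl : HasNormalPComplement p K :=
    ⟨default, _, MonoidHom.normal_ker _,
      MonoidHom.ker_transferSylow_isComplement' default (hcen default)⟩
  refine ⟨(pResidual p K).map (N.subtype.comp K.subtype), ?_, fun c => ?_⟩
  · rw [Subgroup.card_map_of_injective (show Function.Injective (N.subtype.comp K.subtype) from
      N.subtype_injective.comp K.subtype_injective)]
    exact Transfer.hasNormalPComplement_iff_not_dvd.1 hcompl
  · constructor
    · rintro ⟨d, hd, rfl⟩
      refine ⟨d.2, (d : N).2, ?_⟩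
      rw [SetLike.mem_coe, Transfer.mem_pResidual_iff hcompl] at hd
      rwa [orderOf_injective (N.subtype.comp K.subtype) (N.subtype_injective.comp K.subtype_injective)]
    · rintro ⟨hc, hcN, hcop⟩
      refine ⟨⟨⟨c, hcN⟩, hc⟩, (Transfer.mem_pResidual_iff hcompl).2 ?_, rfl⟩
      simpa [← Subgroup.orderOf_coe] using hcop

include hD in
/-- Invariance under `p'`-elements of `C_N(P)`. -/
theorem fval_mul_regular {x w₀ : G} (hx : x ∈ cP P) (hw₀ : w₀ ∈ cP P) (hw₀N : w₀ ∈ N)
    (hw₀r : (orderOf w₀).Coprime p) : fval hM ψ (x * w₀) = fval hM ψ x := by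
  classical
  letI := resInst hM
  haveI := resField_charP hM
  obtain ⟨W, hWp, hW⟩ := exists_pPrime_part (G := G) P
  haveI := Fintype.ofFinite W
  have key : ∀ y ∈ cP P, ∑ w ∈ (Finset.univ.filter fun g => g ∈ W), fval hM ψ (y * w) =
      (Nat.card W : ResField hM) * fval hM ψ y := by
    intro y hy
    have hcardW : (Finset.univ.filter fun g => g ∈ W).card = Nat.card W := by
      rw [Nat.card_eq_fintype_card, ← Fintype.card_subtype]
    rw [← hcardW, ← nsmul_eq_mul, ← Finset.sum_const]
    rw [← Finset.sum_fiberwise_of_maps_to (g := fun w => nOrb N w)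
      (t := (Finset.univ.filter fun g => g ∈ W).image fun w => nOrb N w)
      fun w hw => Finset.mem_image_of_mem _ hw,
      ← Finset.sum_fiberwise_of_maps_to (g := fun w => nOrb N w)
      (t := (Finset.univ.filter fun g => g ∈ W).image fun w => nOrb N w)
      (s := Finset.univ.filter fun g => g ∈ W) fun w hw => Finset.mem_image_of_mem _ hw]
    refine Finset.sum_congr rfl fun L hL => ?_
    obtain ⟨w, hw, rfl⟩ := Finset.mem_image.1 hL
    have hwW : w ∈ W := (Finset.mem_filter.1 hw).2
    obtain ⟨hwC, hwN, hwr⟩ := (hW w).1 hwW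
    set O := (Finset.univ.filter fun g => g ∈ W).filter (fun v => nOrb N v = nOrb N w) with hO
    have hOmem : ∀ v, v ∈ O ↔ v ∈ nOrb N w ∧ v ∈ cP P := by
      intro v
      simp only [hO, Finset.mem_filter, Finset.mem_univ, true_and]
      constructor
      · rintro ⟨hv, he⟩
        exact ⟨he ▸ self_mem_nOrb N v, ((hW v).1 hv).1⟩
      · rintro ⟨hv, hvC⟩
        obtain ⟨a, ha, rfl⟩ := mem_nOrb.1 hv
        refine ⟨(hW _).2 ⟨hvC, N.mul_mem (N.mul_mem ha hwN) (N.inv_mem ha), ?_⟩, nOrb_eq hv⟩
        rw [← MulAut.conj_apply, MulEquiv.orderOf_eq]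
        exact hwr
    -- the fixed pairs
    have h := prod_fval hM hD P ![y, w] (Fin.forall_fin_two.2 ⟨good_of_mem hy, good_of_mem hwC⟩)
    have hc := card_fixed_tuples hM P ![y, w]
    rw [Fin.prod_univ_two, Fin.prod_univ_two] at h
    rw [Fin.prod_univ_two] at hc
    simp only [Matrix.cons_val_zero, Matrix.cons_val_one] at h hc
    rw [fval_of_mem_N hM hD P hwN (good_of_mem hwC), mul_one] at h
    set Oy := (nOrb N y).filter (fun v => v ∈ cP P) with hOy
    have hsplit : ∀ F : G → ResField hM,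
        ∑ t ∈ Finset.univ.filter (fun t : Tup N ![y, w] => ∀ i, (t i : G) ∈ cP P), F (tprod t) =
          ∑ u ∈ Oy, ∑ v ∈ O, F (u * v) := by
      intro F
      rw [← Finset.sum_product']
      refine Finset.sum_bij' (fun t _ => ((t 0 : G), (t 1 : G)))
        (fun q hq => Fin.cons (α := fun i => ↥(nOrb N (![y, w] i)))
          ⟨q.1, (Finset.mem_filter.1 (Finset.mem_product.1 hq).1).1⟩
          (Fin.cons (α := fun i : Fin 1 => ↥(nOrb N (![y, w] i.succ)))
            ⟨q.2, ((hOmem _).1 (Finset.mem_product.1 hq).2).1⟩ finZeroElim))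
        (fun t ht => ?_) (fun q hq => ?_) (fun t _ => ?_) (fun q _ => rfl) (fun t _ => ?_)
      · have := (Finset.mem_filter.1 ht).2
        exact Finset.mem_product.2 ⟨Finset.mem_filter.2 ⟨(t 0).2, this 0⟩,
          (hOmem _).2 ⟨(t 1).2, this 1⟩⟩
      · refine Finset.mem_filter.2 ⟨Finset.mem_univ _, Fin.forall_fin_two.2 ⟨?_, ?_⟩⟩
        · exact (Finset.mem_filter.1 (Finset.mem_product.1 hq).1).2
        · exact ((hOmem _).1 (Finset.mem_product.1 hq).2).2
      · funext i
        fin_cases i <;> rfl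
      · simp [tprod, List.ofFn_succ]
    rw [hsplit] at h
    have hinner : ∀ u ∈ Oy, ∑ v ∈ O, fval hM ψ (u * v) = ∑ v ∈ O, fval hM ψ (y * v) := by
      intro u hu
      rw [Finset.mem_filter] at hu
      obtain ⟨r, hrN, rfl, hrC⟩ := sylow_conj_cP P hy hu.2 hu.1
      have hmap : ∀ v ∈ O, r⁻¹ * v * r ∈ O := by
        intro v hv
        simp only [hO, Finset.mem_filter, Finset.mem_univ, true_and] at hv ⊢
        obtain ⟨hvC, hvN, hvr⟩ := (hW v).1 hv.1
        have h' : r⁻¹ * v * r ∈ cP P := hrC v hvC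
        refine ⟨(hW _).2 ⟨h', ?_, ?_⟩, ?_⟩
        · have := (inferInstance : N.Normal).conj_mem v hvN r⁻¹
          rwa [inv_inv] at this
        · have : r⁻¹ * v * r = MulAut.conj r⁻¹ v := by rw [MulAut.conj_apply, inv_inv]
          rw [this, MulEquiv.orderOf_eq]
          exact hvr
        · rw [← hv.2]
          exact nOrb_eq (mem_nOrb.2 ⟨r⁻¹, inv_mem hrN, by rw [inv_inv]⟩)
      have hbij : O.image (fun v => r⁻¹ * v * r) = O :=
        Finset.eq_of_subset_of_card_le (fun v hv => by
          obtain ⟨a, ha, rfl⟩ := Finset.mem_image.1 hv; exact hmap a ha)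
          (by rw [Finset.card_image_of_injective _ fun a b hab => mul_left_cancel (mul_right_cancel hab)])
      conv_rhs => rw [← hbij, Finset.sum_image fun a _ b _ hab => mul_left_cancel (mul_right_cancel hab)]
      refine Finset.sum_congr rfl fun v _ => ?_
      rw [← fval_conj hM (y * (r⁻¹ * v * r)) r]
      congr 1
      group
    rw [Finset.sum_congr rfl hinner, Finset.sum_const, nsmul_eq_mul] at h
    have hcount := hsplit fun _ => (1 : ResField hM)
    simp only [Finset.sum_const, nsmul_one, nsmul_eq_mul, mul_one] at hcount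
    rw [hcount] at hc
    rw [hc] at h
    have hne : (Oy.card : ResField hM) ≠ 0 := by
      intro h0
      rw [h0, zero_mul] at hc
      exact mul_ne_zero (cast_card_ne_zero hM P (good_of_mem hy))
        (cast_card_ne_zero hM P (good_of_mem hwC)) hc
    rw [mul_assoc] at h
    rw [Finset.sum_const, nsmul_eq_mul]
    exact (mul_left_cancel₀ hne h).symm
  have hxw : x * w₀ ∈ cP P := mul_mem hx hw₀
  have hw₀W : w₀ ∈ W := (hW w₀).2 ⟨hw₀, hw₀N, hw₀r⟩
  have h1 := key _ hxw
  have h2 := key _ hx
  have h3 : ∑ w ∈ (Finset.univ.filter fun g => g ∈ W), fval hM ψ (x * w₀ * w) =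
      ∑ w ∈ (Finset.univ.filter fun g => g ∈ W), fval hM ψ (x * w) :=
    Finset.sum_nbij' (fun w => w₀ * w) (fun w => w₀⁻¹ * w)
      (fun w hw => by simpa using mul_mem hw₀W (by simpa using hw))
      (fun w hw => by simpa using mul_mem (inv_mem hw₀W) (by simpa using hw))
      (fun w _ => by group) (fun w _ => by group) (fun w _ => by rw [mul_assoc])
  rw [h3, h2] at h1
  refine (mul_left_cancel₀ ?_ h1).symm
  rw [Ne, CharP.cast_eq_zero_iff (ResField hM) p]
  exact hWp

include hD in
/-- Invariance under `C_N(P)`. -/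
theorem fval_mul_of_mem {x c : G} (hx : x ∈ cP P) (hc : c ∈ cP P) (hcN : c ∈ N) :
    fval hM ψ (x * c) = fval hM ψ x := by
  letI := resInst hM
  haveI := resField_charP hM
  haveI := ExpChar.prime (R := ResField hM) (Fact.out : p.Prime)
  obtain ⟨z, w, hzw, hcomm, ⟨k, hk⟩, hw, hz, hwz⟩ := exists_pPart_zpowers (p := p) c
  have hzC : z ∈ cP P := (Subgroup.zpowers_le.2 hc) hz
  have hzN : z ∈ N := (Subgroup.zpowers_le.2 hcN) hz
  have hwC : w ∈ cP P := (Subgroup.zpowers_le.2 hc) hwz
  have hwN : w ∈ N := (Subgroup.zpowers_le.2 hcN) hwz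
  have hwcop : (orderOf w).Coprime p :=
    ((Fact.out : p.Prime).coprime_iff_not_dvd.2 hw).symm
  have hzP : (⟨z, hzN⟩ : N) ∈ (P : Subgroup N) := by
    have hnorm : Subgroup.zpowers (⟨z, hzN⟩ : N) ≤
        Subgroup.normalizer ((P : Subgroup N) : Set N) := by
      rw [Subgroup.zpowers_le, Subgroup.mem_normalizer_iff]
      intro a
      refine ⟨fun ha => ?_, fun ha => ?_⟩
      · have e : a * ⟨z, hzN⟩ = ⟨z, hzN⟩ * a := Subtype.ext (mem_cP.1 hzC a ha)
        rwa [← e, mul_inv_cancel_right]
      · have e : (⟨z, hzN⟩ : N) * a * ⟨z, hzN⟩⁻¹ * ⟨z, hzN⟩ =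
            ⟨z, hzN⟩ * (⟨z, hzN⟩ * a * ⟨z, hzN⟩⁻¹) := Subtype.ext (mem_cP.1 hzC _ ha)
        rw [inv_mul_cancel_right, mul_right_inj] at e
        rwa [← e] at ha
    have hsup : IsPGroup p (Subgroup.zpowers (⟨z, hzN⟩ : N) ⊔ (P : Subgroup N) : Subgroup N) :=
      IsPGroup.to_sup_of_normal_right' (IsPGroup.of_card (n := k)
        (by rw [Nat.card_zpowers, Subgroup.orderOf_mk, hk])) P.isPGroup' hnorm
    exact (P.is_maximal' hsup le_sup_right).le (Subgroup.mem_sup_left (Subgroup.mem_zpowers _))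
  have hzx : Commute (x * w) z :=
    (mem_cP.1 (mul_mem hx hwC) ⟨z, hzN⟩ hzP).symm
  have hxc : x * c = x * w * z := by rw [mul_assoc, ← hcomm.eq, hzw]
  have e1 := fval_pow_pk hM hD P (mul_mem hx hc) k
  rw [hxc, hzx.mul_pow, show z ^ p ^ k = 1 from hk ▸ pow_orderOf_eq_one z, mul_one,
    fval_pow_pk hM hD P (mul_mem hx hwC) k] at e1
  rw [hxc, ← fval_mul_regular hM hD P hx hwC hwN hwcop]
  exact ((iterateFrobenius_inj (ResField hM) p k) (by simpa [iterateFrobenius_def] using e1)).symm

include hD in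
/-- Multiplicativity. -/
theorem fval_mul {x y : G} (hx : x ∈ cP P) (hy : y ∈ cP P) :
    fval hM ψ (x * y) = fval hM ψ x * fval hM ψ y := by
  have h := prod_fval_eq hM hD P ![x, y] (Fin.forall_fin_two.2 ⟨good_of_mem hx, good_of_mem hy⟩)
    (fval hM ψ (x * y)) fun t ht => by
      have e : tprod t = (t 0 : G) * (t 1 : G) := by simp [tprod, List.ofFn_succ]
      have hN : (x * y)⁻¹ * tprod t ∈ N := by
        rw [← QuotientGroup.eq_one_iff, e]
        obtain ⟨a, ha, ha'⟩ := mem_nOrb.1 (t 0).2
        obtain ⟨b, hb, hb'⟩ := mem_nOrb.1 (t 1).2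
        simp only [Matrix.cons_val_zero, Matrix.cons_val_one] at ha' hb'
        rw [← ha', ← hb']
        simp [(QuotientGroup.eq_one_iff a).2 ha, (QuotientGroup.eq_one_iff b).2 hb]
      have hC : (x * y)⁻¹ * tprod t ∈ cP P :=
        mul_mem (inv_mem (mul_mem hx hy)) (e ▸ mul_mem (ht 0) (ht 1))
      have := fval_mul_of_mem hM hD P (mul_mem hx hy) hC hN
      rwa [mul_inv_cancel_left] at this
  rw [Fin.prod_univ_two] at h
  exact h.symm

include hD in
theorem fval_congr {x y : G} (hx : x ∈ cP P) (hy : y ∈ cP P) (h : x⁻¹ * y ∈ N) :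
    fval hM ψ y = fval hM ψ x := by
  have := fval_mul_of_mem hM hD P hx (mul_mem (inv_mem hx) hy) h
  rwa [mul_inv_cancel_left] at this

end Cfsg.Agent.Block.RelAlperin
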