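import Cfsg.Agent.Lib.Block.Residue
import Cfsg.Agent.Lib.Block.ClassMul
import Cfsg.Agent.Lib.Char.Complete
import Cfsg.Agent.Lib.Char.Det
import Cfsg.Agent.Lib.Block.Principal

/-!
# Class sums of a normal subgroup acting on an extended character

`G` is finite, `N` is normal, `ψ` is irreducible on `G` and on `N`.  The sum of the elements of an
`N`-orbit acts as a scalar, and a product of such scalars is read off from the tuples fixed by a
`p`-subgroup of `N`.
-/

set_option autoImplicit false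
set_option linter.style.haveILetI false
set_option linter.unusedSectionVars false

open Cfsg
open scoped ComplexConjugate

namespace Cfsg.Agent.Block.RelAlperin

universe u

variable {G : Type u} [Group G] [Fintype G]

open scoped Classical in
/-- The orbit of `g` under conjugation by `N`. -/
noncomputable def nOrb (N : Subgroup G) (g : G) : Finset G :=
  Finset.univ.filter fun u => ∃ n ∈ N, n * g * n⁻¹ = u

theorem mem_nOrb {N : Subgroup G} {g u : G} : u ∈ nOrb N g ↔ ∃ n ∈ N, n * g * n⁻¹ = u := by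
  simp [nOrb]

theorem self_mem_nOrb (N : Subgroup G) (g : G) : g ∈ nOrb N g :=
  mem_nOrb.2 ⟨1, one_mem _, by simp⟩

theorem conj_mem_nOrb {N : Subgroup G} {g u n : G} (hn : n ∈ N) (hu : u ∈ nOrb N g) :
    n * u * n⁻¹ ∈ nOrb N g := by
  obtain ⟨m, hm, rfl⟩ := mem_nOrb.1 hu
  exact mem_nOrb.2 ⟨n * m, mul_mem hn hm, by group⟩

theorem nOrb_eq {N : Subgroup G} {g u : G} (hu : u ∈ nOrb N g) : nOrb N u = nOrb N g := by
  obtain ⟨m, hm, rfl⟩ := mem_nOrb.1 hu
  ext v
  refine ⟨fun hv => ?_, fun hv => ?_⟩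
  · obtain ⟨n, hn, rfl⟩ := mem_nOrb.1 hv
    exact conj_mem_nOrb hn (mem_nOrb.2 ⟨m, hm, rfl⟩)
  · obtain ⟨n, hn, rfl⟩ := mem_nOrb.1 hv
    exact mem_nOrb.2 ⟨n * m⁻¹, mul_mem hn (inv_mem hm), by group⟩

theorem card_nOrb (N : Subgroup G) (g : G) :
    (nOrb N g).card = ((Subgroup.centralizer ({g} : Set G)).subgroupOf N).index := by
  classical
  rw [Subgroup.index, ← Fintype.card_coe, ← Nat.card_eq_fintype_card]
  symm
  refine Nat.card_congr (Equiv.ofBijective
    (Quotient.lift (fun n : N => (⟨(n : G) * g * (n : G)⁻¹, mem_nOrb.2 ⟨n, n.2, rfl⟩⟩ :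
      ↥(nOrb N g))) fun a b hab => ?_) ⟨?_, ?_⟩)
  · have h := QuotientGroup.leftRel_apply.1 hab
    rw [Subgroup.mem_subgroupOf, Subgroup.mem_centralizer_singleton_iff] at h
    simp only [Subgroup.coe_mul, Subgroup.coe_inv] at h
    refine Subtype.ext ?_
    show (a : G) * g * (a : G)⁻¹ = (b : G) * g * (b : G)⁻¹
    calc (a : G) * g * (a : G)⁻¹
        = (a : G) * (g * ((a : G)⁻¹ * (b : G))) * (b : G)⁻¹ := by group
      _ = (b : G) * g * (b : G)⁻¹ := by rw [← h]; group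
  · rintro ⟨a⟩ ⟨b⟩ h
    refine Quotient.sound (QuotientGroup.leftRel_apply.2 ?_)
    rw [Subgroup.mem_subgroupOf, Subgroup.mem_centralizer_singleton_iff]
    simp only [Subgroup.coe_mul, Subgroup.coe_inv]
    have h' : (a : G) * g * (a : G)⁻¹ = (b : G) * g * (b : G)⁻¹ := congrArg Subtype.val h
    calc (a : G)⁻¹ * (b : G) * g = (a : G)⁻¹ * ((b : G) * g * (b : G)⁻¹) * (b : G) := by group
      _ = g * ((a : G)⁻¹ * (b : G)) := by rw [← h']; group
  · rintro ⟨u, hu⟩
    obtain ⟨n, hn, rfl⟩ := mem_nOrb.1 hu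
    exact ⟨QuotientGroup.mk (⟨n, hn⟩ : N), rfl⟩

/-- The scalar of the orbit sum. -/
noncomputable def om (N : Subgroup G) (ψ : G → ℂ) (g : G) : ℂ := (∑ u ∈ nOrb N g, ψ u) / ψ 1

theorem sum_nOrb (N : Subgroup G) {ψ : G → ℂ} (hψ : IsClassFunction G ψ) (g : G) :
    ∑ u ∈ nOrb N g, ψ u / ψ 1 = ((nOrb N g).card : ℂ) * (ψ g / ψ 1) := by
  rw [Finset.sum_congr rfl fun u hu => show ψ u / ψ 1 = ψ g / ψ 1 by
    obtain ⟨n, -, rfl⟩ := mem_nOrb.1 hu
    rw [hψ g n], Finset.sum_const, nsmul_eq_mul]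

theorem om_eq_card_mul (N : Subgroup G) {ψ : G → ℂ} (hψ : IsClassFunction G ψ) (g : G) :
    om N ψ g = ((nOrb N g).card : ℂ) * (ψ g / ψ 1) := by
  rw [← sum_nOrb N hψ, om, Finset.sum_div]

/-- Products of the orbit scalars. -/
theorem prod_om (N : Subgroup G) [hN : N.Normal] [Fintype N] (ψ : IrrCharacter G)
    (hres : IsIrrCharacter N (fun n : N => (ψ : G → ℂ) n)) :
    ∀ (n : ℕ) (x : Fin n → G), ∏ i, om N (ψ : G → ℂ) (x i) =
      ∑ t : (∀ i, ↥(nOrb N (x i))),
        (ψ : G → ℂ) (List.ofFn fun i => ((t i : ↥(nOrb N (x i))) : G)).prod / (ψ : G → ℂ) 1 := by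
  classical
  obtain ⟨d, ρ, hρ, hρψ⟩ := ψ.2
  have hscal : ∀ g : G, ∑ u ∈ nOrb N g, ρ u =
      om N (ψ : G → ℂ) g • (LinearMap.id : (Fin d → ℂ) →ₗ[ℂ] (Fin d → ℂ)) := by
    intro g
    let σ : Representation ℂ N (Fin d → ℂ) := ρ.comp N.subtype
    have hσ : σ.character = fun n : N => (ψ : G → ℂ) n := by
      funext n
      exact congrFun hρψ n
    haveI : σ.IsIrreducible := Char.irreducible_of_character σ (hσ ▸ hres)
    obtain ⟨c, hc⟩ := Char.schur_scalar σ (∑ u ∈ nOrb N g, ρ u) fun n => by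
      show (∑ u ∈ nOrb N g, ρ u) * ρ (n : G) = ρ (n : G) * ∑ u ∈ nOrb N g, ρ u
      rw [Finset.sum_mul, Finset.mul_sum]
      refine Finset.sum_bij' (fun u _ => (n : G)⁻¹ * u * (n : G))
        (fun u _ => (n : G) * u * (n : G)⁻¹) (fun u hu => ?_) (fun u hu => conj_mem_nOrb n.2 hu)
        (fun u _ => by group) (fun u _ => by group) (fun u _ => ?_)
      · have := conj_mem_nOrb (inv_mem n.2) hu
        rwa [inv_inv] at this
      · rw [← map_mul, ← map_mul]
        congr 1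
        group
    have htr := congrArg (LinearMap.trace ℂ (Fin d → ℂ)) hc
    rw [map_sum, map_smul, LinearMap.trace_id, smul_eq_mul] at htr
    have hd : (ψ : G → ℂ) 1 = (Module.finrank ℂ (Fin d → ℂ) : ℂ) := by
      rw [← hρψ, Representation.char_one]
    have hom : om N (ψ : G → ℂ) g = c := by
      rw [om, hd, div_eq_iff (hd ▸ irr_one_ne_zero ψ), ← htr, ← hρψ]
      rfl
    rw [hom, hc]
  have hprod : ∀ (n : ℕ) (x : Fin n → G),
      ∑ t : (∀ i, ↥(nOrb N (x i))), ρ (List.ofFn fun i => ((t i : ↥(nOrb N (x i))) : G)).prod =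
        (∏ i, om N (ψ : G → ℂ) (x i)) • (LinearMap.id : (Fin d → ℂ) →ₗ[ℂ] (Fin d → ℂ)) := by
    intro n
    induction n with
    | zero =>
      intro x
      simp [Module.End.one_eq_id]
    | succ n ih =>
      intro x
      rw [← (Fin.consEquiv fun i => ↥(nOrb N (x i))).sum_comp, Fintype.sum_prod_type,
        Fin.prod_univ_succ, ← smul_smul, ← ih fun i => x i.succ, Finset.smul_sum]
      rw [Finset.sum_comm]
      refine Finset.sum_congr rfl fun t _ => ?_
      simp only [Fin.consEquiv_apply, List.ofFn_succ, Fin.cons_zero, Fin.cons_succ,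
        List.prod_cons, map_mul]
      rw [← Finset.sum_mul, ← Finset.sum_coe_sort (nOrb N (x 0)) (fun u => ρ u) |>.symm,
        hscal (x 0), smul_mul_assoc, ← Module.End.one_eq_id, one_mul]
  intro n x
  have h := congrArg (LinearMap.trace ℂ (Fin d → ℂ)) (hprod n x)
  rw [map_sum, map_smul, LinearMap.trace_id, smul_eq_mul] at h
  have hd : (ψ : G → ℂ) 1 = (Module.finrank ℂ (Fin d → ℂ) : ℂ) := by
    rw [← hρψ, Representation.char_one]
  rw [← Finset.sum_div, eq_div_iff (irr_one_ne_zero ψ), hd, ← h, ← hρψ]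
  rfl

end Cfsg.Agent.Block.RelAlperin
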