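import Cfsg.Agent.Lib.Block.RelAlperin.Extension
import Cfsg.Agent.Lib.Char.AlperinBlocks
import Cfsg.Agent.Lib.Char.ExtendMain
import Cfsg.Agent.Lib.Char.Galois

/-!
# A `p`-rational extension in the principal block

The exponents `k` prime to `|G|` and congruent to `1` modulo the `p'`-part of `|G|` describe the
`p`-rational characters.
-/

set_option autoImplicit false
set_option linter.style.haveILetI false
set_option linter.unusedSectionVars false

open Cfsg
open scoped ComplexConjugate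

namespace Cfsg.Agent.Block.RelAlperin

universe u

variable {G : Type u} [Group G]

/-- The Galois twist of a character and its determinant. -/
theorem detChar_pow [Finite G] {χ : G → ℂ} (h : IsIrrCharacter G χ) {k : ℕ}
    (hk : k.Coprime (Nat.card G)) (g : G) :
    detChar (fun x => χ (x ^ k)) g = detChar χ g ^ k := by
  obtain ⟨σ, hσ⟩ := Char.exists_ringAut_pow (Nat.card G) k Nat.card_pos hk
  obtain ⟨n, ρ, hρ, rfl, -, hdet⟩ := Char.IsIrr.exists_rep h
  have e : (Char.galoisTwist σ ρ).character = fun x => ρ.character (x ^ k) := funext fun x => by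
    rw [Char.galoisTwist_character]
    exact Char.ringAut_character_eq_pow ⟨n, ρ, rfl⟩ σ hσ (orderOf_dvd_natCard x)
  haveI : (Char.galoisTwist σ ρ).IsIrreducible := Char.irreducible_of_character _ (by
    rw [e]; exact Char.IsIrr.pow_map h hk)
  rw [← e, Char.detChar_eq, hdet, Char.detUnits_apply, ← hσ (LinearMap.det (ρ g))
    (by rw [← map_pow, ← map_pow, pow_card_eq_one', map_one, map_one])]
  have h2 : LinearMap.toMatrix' (Char.galoisTwist σ ρ g) =
      (LinearMap.toMatrix' (ρ g)).map σ := LinearMap.toMatrix'_toLin' _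
  rw [← LinearMap.det_toMatrix', h2, ← LinearMap.det_toMatrix']
  exact (σ.toRingHom.map_det _).symm

/-- A value fixed by the exponents congruent to one modulo `e` lies in the `e`-th cyclotomic
field. -/
theorem mem_adjoin_of_fixed [Finite G] {χ : G → ℂ} (h : IsCharacter G χ) {e : ℕ}
    (he : e ∣ Nat.card G) (g : G)
    (hfix : ∀ k : ℕ, k.Coprime (Nat.card G) → k ≡ 1 [MOD e] → χ (g ^ k) = χ g) :
    χ g ∈ IntermediateField.adjoin ℚ ({Complex.exp (2 * Real.pi * Complex.I / e)} : Set ℂ) := by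
  obtain ⟨n, ρ, rfl⟩ := h
  set N := Nat.card G with hNdef
  have hN : 0 < N := Nat.card_pos
  have he0 : e ≠ 0 := fun h0 => hN.ne' (Nat.eq_zero_of_zero_dvd (h0 ▸ he))
  haveI : NeZero N := ⟨hN.ne'⟩
  set w := Complex.exp (2 * Real.pi * Complex.I / e) with hwdef
  have hw : IsPrimitiveRoot w e := Complex.isPrimitiveRoot_exp e he0
  obtain ⟨ζ, hζ⟩ : ∃ ζ : ℂ, IsPrimitiveRoot ζ N := ⟨_, Complex.isPrimitiveRoot_exp N hN.ne'⟩
  let K : IntermediateField ℚ ℂ := IntermediateField.adjoin ℚ {ζ}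
  haveI : IsCyclotomicExtension {N} ℚ K := by
    change IsCyclotomicExtension {N} ℚ (IntermediateField.adjoin ℚ {ζ}).toSubalgebra
    rw [IntermediateField.adjoin_simple_toSubalgebra_of_isAlgebraic
      (hζ.isIntegral hN).tower_top.isAlgebraic]
    exact hζ.adjoin_isCyclotomicExtension ℚ
  haveI := IsCyclotomicExtension.finiteDimensional {N} ℚ K
  haveI := IsCyclotomicExtension.isGalois {N} ℚ K
  have hroot : ∀ z : ℂ, z ^ N = 1 → z ∈ K := fun z hz => by
    obtain ⟨j, -, hj⟩ := hζ.eq_pow_of_pow_eq_one hz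
    exact hj ▸ pow_mem (IntermediateField.mem_adjoin_simple_self ℚ ζ) j
  have hwN : w ^ N = 1 := by
    obtain ⟨j, hj⟩ := he
    rw [hj, pow_mul, hw.pow_eq_one, one_pow]
  obtain ⟨b, c, -, hc, hk⟩ := Char.exists_rep_eigenbasis ρ g
  have hcN : ∀ i, c i ^ N = 1 := fun i => by
    obtain ⟨j, hj⟩ := orderOf_dvd_natCard g
    rw [hNdef, hj, pow_mul, hc, one_pow]
  have hval : ∀ k : ℕ, ρ.character (g ^ k) = ∑ i, c i ^ k := hk
  let x : K := ∑ i, ⟨c i, hroot _ (hcN i)⟩
  have hx : (x : ℂ) = ρ.character g := by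
    have := hval 1
    simp only [pow_one] at this
    rw [this]
    exact map_sum K.val _ _
  let F : IntermediateField ℚ K := IntermediateField.adjoin ℚ {(⟨w, hroot w hwN⟩ : K)}
  have hxF : x ∈ IntermediateField.fixedField F.fixingSubgroup := by
    rw [IntermediateField.mem_fixedField_iff]
    intro τ hτ
    have hζK : IsPrimitiveRoot (IsCyclotomicExtension.zeta N ℚ K) N :=
      IsCyclotomicExtension.zeta_spec N ℚ K
    set k := (hζK.autToPow ℚ τ : ZMod N).val with hkdef
    have hkc : k.Coprime N := ZMod.val_coe_unit_coprime _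
    have hτpow : ∀ z : K, z ^ N = 1 → τ z = z ^ k := by
      intro z hz
      obtain ⟨i, -, rfl⟩ := hζK.eq_pow_of_pow_eq_one hz
      rw [map_pow, ← hζK.autToPow_spec ℚ τ, ← pow_mul, ← pow_mul, mul_comm]
    have hw' : (⟨w, hroot w hwN⟩ : K) ^ N = 1 := Subtype.ext hwN
    have hfixw : τ (⟨w, hroot w hwN⟩ : K) = ⟨w, hroot w hwN⟩ :=
      (IntermediateField.mem_fixingSubgroup_iff F τ).1 hτ _
        (IntermediateField.mem_adjoin_simple_self ℚ _)
    rw [hτpow _ hw'] at hfixw
    have hk1 : k ≡ 1 [MOD e] := by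
      have h1 : w ^ k = w ^ 1 := by rw [pow_one]; exact congrArg Subtype.val hfixw
      have := (isOfFinOrder_iff_pow_eq_one.2 ⟨e, Nat.pos_of_ne_zero he0, hw.pow_eq_one⟩).pow_eq_pow_iff_modEq.1 h1
      rwa [← hw.eq_orderOf] at this
    apply Subtype.val_injective
    show ((τ x : K) : ℂ) = (x : ℂ)
    rw [show τ x = ∑ i, (⟨c i, hroot _ (hcN i)⟩ : K) ^ k by
      rw [map_sum]
      exact Finset.sum_congr rfl fun i _ => hτpow _ (Subtype.ext (hcN i)), hx,
      ← hfix k hkc hk1, hval k]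
    simp
  rw [IsGalois.fixedField_fixingSubgroup] at hxF
  suffices h2 : ∀ y ∈ F, (y : ℂ) ∈ IntermediateField.adjoin ℚ ({w} : Set ℂ) from hx ▸ h2 x hxF
  intro y hy
  induction hy using IntermediateField.adjoin_induction with
  | mem z hz => exact Set.mem_singleton_iff.1 hz ▸ IntermediateField.mem_adjoin_simple_self ℚ w
  | algebraMap r => simpa using IntermediateField.algebraMap_mem _ r
  | add a b _ _ ha hb => exact add_mem ha hb
  | inv a _ ha => exact inv_mem ha
  | mul a b _ _ ha hb => exact mul_mem ha hb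

/-- Conversely. -/
theorem fixed_of_mem_adjoin [Finite G] {χ : G → ℂ} (h : IsCharacter G χ) {m e k T : ℕ}
    (hm : m ≠ 0) (hT : 0 < T) (hcardT : Nat.card G ∣ T) (hgcd : Nat.gcd T m ∣ e)
    (hk : k.Coprime T) (hk1 : k ≡ 1 [MOD e])
    (hval : ∀ g, χ g ∈ IntermediateField.adjoin ℚ
      ({Complex.exp (2 * Real.pi * Complex.I / m)} : Set ℂ)) (g : G) :
    χ (g ^ k) = χ g := by
  obtain ⟨k', hk'T, hk'm⟩ := Nat.chineseRemainder' (hk1.of_dvd hgcd)
  have hcop : k'.Coprime (Nat.lcm T m) := by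
    refine Nat.Coprime.coprime_dvd_right (Nat.lcm_dvd_mul T m) (Nat.Coprime.mul_right ?_ ?_)
    · rw [Nat.coprime_iff_gcd_eq_one, hk'T.gcd_eq]; exact hk
    · rw [Nat.coprime_iff_gcd_eq_one, hk'm.gcd_eq]; exact Nat.gcd_one_left m
  obtain ⟨σ, hσ⟩ := Char.exists_ringAut_pow (Nat.lcm T m) k' (Nat.lcm_pos hT (Nat.pos_of_ne_zero hm))
    hcop
  have h1 : σ (χ g) = χ (g ^ k') := Char.ringAut_character_eq_pow h σ hσ
    ((orderOf_dvd_natCard g).trans (hcardT.trans (Nat.dvd_lcm_left T m)))
  have hgk : g ^ k' = g ^ k := pow_eq_pow_iff_modEq.2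
    (hk'T.of_dvd ((orderOf_dvd_natCard g).trans hcardT))
  have h2 : σ (χ g) = χ g := by
    suffices ∀ y ∈ IntermediateField.adjoin ℚ
        ({Complex.exp (2 * Real.pi * Complex.I / m)} : Set ℂ), σ y = y from this _ (hval g)
    intro y hy
    induction hy using IntermediateField.adjoin_induction with
    | mem z hz =>
      rw [Set.mem_singleton_iff] at hz
      subst hz
      have hp := (Complex.isPrimitiveRoot_exp m hm).pow_eq_one
      set z := Complex.exp (2 * Real.pi * Complex.I / m)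
      rw [hσ z (by obtain ⟨j, hj⟩ := Nat.dvd_lcm_right T m; rw [hj, pow_mul, hp, one_pow]),
        pow_eq_pow_mod k' hp, hk'm, ← pow_eq_pow_mod 1 hp, pow_one]
    | algebraMap r => exact map_ratCast σ r
    | add a b _ _ ha hb => rw [map_add, ha, hb]
    | inv a _ ha => rw [map_inv₀, ha]
    | mul a b _ _ ha hb => rw [map_mul, ha, hb]
  rw [← hgk, ← h1, h2]

variable {p : ℕ} [Fact p.Prime]

/-- A witness at a prime different from `p`. -/
theorem witness_sylow [Fintype G] {M : Ideal AlgInt} (hM : IsPModular p M) (N : Subgroup G)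
    [N.Normal] [Fintype N] (Q : Sylow p N) (θ : IrrCharacter N) (hθ : θ ∈ principalBlock M N)
    (d : ℕ) {q : ℕ} [Fact q.Prime] (hqp : q ≠ p) (hqT : ¬ q ∣ (N ⊔ cP Q).index) :
    Char.Ext.Witness (θ : N → ℂ) d q := by
  classical
  set C := cP Q with hC
  set f : C →* G ⧸ N := (QuotientGroup.mk' N).comp C.subtype with hf
  let R : Sylow q C := default
  set A : Subgroup (G ⧸ N) := (R : Subgroup C).map f with hA
  set H : Subgroup G := A.comap (QuotientGroup.mk' N) with hH
  have hNH : N ≤ H := fun n hn => Subgroup.mem_comap.2 (by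
    rw [QuotientGroup.mk'_apply, (QuotientGroup.eq_one_iff n).2 hn]
    exact one_mem _)
  have hrange : f.range = (N ⊔ C).map (QuotientGroup.mk' N) := by
    rw [Subgroup.map_sup, hf, MonoidHom.range_comp, Subgroup.range_subtype]
    rw [show N.map (QuotientGroup.mk' N) = ⊥ by
      rw [Subgroup.map_eq_bot_iff, QuotientGroup.ker_mk'], bot_sup_eq]
  have hHidx : ¬ q ∣ H.index := by
    rw [hH, Subgroup.index_comap_of_surjective _ (QuotientGroup.mk'_surjective N), hA,
      Subgroup.index_map]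
    refine fun hd => ((Fact.out : q.Prime).dvd_mul.1 hd).elim (fun h1 => ?_) (fun h1 => ?_)
    · exact R.not_dvd_index (h1.trans (Subgroup.index_dvd_of_le le_sup_left))
    · rw [hrange, ← Subgroup.index_comap_of_surjective _ (QuotientGroup.mk'_surjective N),
        Subgroup.comap_map_eq, QuotientGroup.ker_mk'] at h1
      exact hqT (h1.trans (Subgroup.index_dvd_of_le le_sup_left))
  obtain ⟨j, hj⟩ : ∃ j, N.relIndex H = q ^ j := by
    obtain ⟨j, hj⟩ := IsPGroup.iff_card.1 (IsPGroup.map R.isPGroup' f)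
    refine ⟨j, ?_⟩
    rw [← hj, ← Subgroup.relIndex_bot_left A,
      ← Subgroup.map_comap_eq_self_of_surjective (QuotientGroup.mk'_surjective N) A,
      ← Subgroup.relIndex_comap, MonoidHom.comap_bot, QuotientGroup.ker_mk']
  haveI := Fintype.ofFinite H
  haveI := Fintype.ofFinite (N.subgroupOf H)
  set QG : Subgroup G := (Q : Subgroup N).map N.subtype with hQG
  have hQN : QG ≤ N := Subgroup.map_subtype_le _
  have hpq : ¬ p ∣ q ^ j := fun h => hqp ((Nat.prime_dvd_prime_iff_eq Fact.out Fact.out).1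
    ((Fact.out : p.Prime).dvd_of_dvd_pow h)).symm
  have hyp : Char.Alperin.Hyp p (N.subgroupOf H) (QG.subgroupOf H) := by
    refine ⟨?_, fun x hx => hQN hx, ?_, ?_⟩
    · change ¬ p ∣ N.relIndex H
      rw [hj]; exact hpq
    · change ¬ p ∣ QG.relIndex H
      rw [← Subgroup.relIndex_mul_relIndex QG N H hQN hNH, hj]
      refine fun hd => ((Fact.out : p.Prime).dvd_mul.1 hd).elim (fun h1 => ?_) hpq
      rw [hQG, Subgroup.relIndex, Subgroup.subgroupOf,
        Subgroup.comap_map_eq_self_of_injective N.subtype_injective] at h1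
      exact Q.not_dvd_index h1
    · rw [eq_top_iff]
      intro x _
      obtain ⟨r, hr, hrx⟩ := Subgroup.mem_comap.1 x.2
      have hrH : ((r : C) : G) ∈ H := Subgroup.mem_comap.2 ⟨r, hr, rfl⟩
      have hn : (x : G) * ((r : C) : G)⁻¹ ∈ N := by
        rw [← QuotientGroup.eq_one_iff, QuotientGroup.mk_mul, QuotientGroup.mk_inv]
        exact mul_inv_eq_one.2 hrx.symm
      rw [show x = ⟨(x : G) * ((r : C) : G)⁻¹, hNH hn⟩ * ⟨((r : C) : G), hrH⟩ from
        Subtype.ext (by simp)]
      refine Subgroup.mul_mem_sup hn (Subgroup.mem_centralizer_iff.2 fun y hy => ?_)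
      exact Subtype.ext (Subgroup.mem_centralizer_iff.1 r.2 (y : G) hy)
  let e := Subgroup.subgroupOfEquivOfLe hNH
  obtain ⟨η, ⟨-, hη⟩, -⟩ := (Char.Alperin.isomorphic_blocks hM (N.subgroupOf H) hyp).2 _
    (Char.Alperin.mem_principal_comp_mulEquiv e hθ)
  refine Or.inr (Or.inr ⟨H, hNH, (η : H → ℂ), hHidx, η.2, fun m => ?_⟩)
  exact hη ⟨⟨(m : G), hNH m.2⟩, m.2⟩

end Cfsg.Agent.Block.RelAlperin
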